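import Cfsg.Agent.Lib.Helper6.TCD.HeT.CS0
import Cfsg.Agent.Lib.Helper6.TCD.HeT.CS1
import Cfsg.Agent.Lib.Helper6.TCD.HeT.CS2
import Cfsg.Agent.Lib.Helper6.TCD.HeT.CS3
import Cfsg.Agent.Lib.Helper6.TCD.HeT.CS4
import Cfsg.Agent.Lib.Helper6.TCD.HeT.CS5
import Cfsg.Agent.Lib.Helper6.TCD.HeT.CS6
import Cfsg.Agent.Lib.Helper6.TCD.HeT.CS7
import Cfsg.Agent.Lib.Helper6.TCD.HeT.CS8
import Cfsg.Agent.Lib.Helper6.TCD.HeT.CS9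
import Cfsg.Agent.Lib.Helper6.TCD.HeT.CS10
import Cfsg.Agent.Lib.Helper6.TCD.HeT.CS11
import Cfsg.Agent.Lib.Helper6.TCD.HeT.CS12
import Cfsg.Agent.Lib.Helper6.TCD.HeT.CS13
import Cfsg.Agent.Lib.Helper6.TCD.HeT.CS14
import Cfsg.Agent.Lib.Helper6.TCD.HeT.CS15
import Cfsg.Agent.Lib.Helper6.TCD.HeT.CS16
import Cfsg.Agent.Lib.Helper6.TCD.HeT.CS17
import Cfsg.Agent.Lib.Helper6.TCD.HeT.CS18
import Cfsg.Agent.Lib.Helper6.TCD.HeT.CS19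
import Cfsg.Agent.Lib.Helper6.TCD.HeT.CS20
import Cfsg.Agent.Lib.Helper6.TCD.HeT.CS21
import Cfsg.Agent.Lib.Helper6.TCD.HeT.CS22
import Cfsg.Agent.Lib.Helper6.TCD.HeT.CS23
import Cfsg.Agent.Lib.Helper6.TCD.HeT.CS24
import Cfsg.Agent.Lib.Helper6.TCD.HeT.CS25
import Cfsg.Agent.Lib.Helper6.TCD.HeT.CS26
import Cfsg.Agent.Lib.Helper6.TCD.HeT.CS27
import Cfsg.Agent.Lib.Helper6.TCD.HeT.CS28
import Cfsg.Agent.Lib.Helper6.TCD.HeT.CS29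
import Cfsg.Agent.Lib.Helper6.TCD.HeT.CS30
import Cfsg.Agent.Lib.Helper6.TCD.HeT.CS31
import Cfsg.Agent.Lib.Helper6.TCD.HeT.CS32
import Cfsg.Agent.Lib.Helper6.TCD.HeT.CS33
import Cfsg.Agent.Lib.Helper6.TCD.HeT.CS34
import Cfsg.Agent.Lib.Helper6.TCD.HeT.CS35
import Cfsg.Agent.Lib.Helper6.TCD.HeT.CS36
import Cfsg.Agent.Lib.Helper6.TCD.HeT.CS37
import Cfsg.Agent.Lib.Helper6.TCD.HeT.CS38
import Cfsg.Agent.Lib.Helper6.TCD.HeT.CS39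
import Cfsg.Agent.Lib.Helper6.TCD.HeT.CS40
import Cfsg.Agent.Lib.Helper6.TCD.HeT.CS41
import Cfsg.Agent.Lib.Helper6.TCD.HeT.CS42
import Cfsg.Agent.Lib.Helper6.TCD.HeT.CS43
import Cfsg.Agent.Lib.Helper6.TCD.HeT.CS44
import Cfsg.Agent.Lib.Helper6.TCD.HeT.CN0
import Cfsg.Agent.Lib.Helper6.TCD.HeT.CN1
import Cfsg.Agent.Lib.Helper6.TCD.HeT.CN2
import Cfsg.Agent.Lib.Helper6.TCD.HeT.CN3
import Cfsg.Agent.Lib.Helper6.TCD.HeT.CN4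
import Cfsg.Agent.Lib.Helper6.TCD.HeT.CN5
import Cfsg.Agent.Lib.Helper6.TCD.HeT.CN6
import Cfsg.Agent.Lib.Helper6.TCD.HeT.CN7
import Cfsg.Agent.Lib.Helper6.TCD.HeT.CN8
import Cfsg.Agent.Lib.Helper6.TCD.HeT.CC
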