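import Cfsg.Agent.Lib.Helper6.TC10
import Cfsg.Agent.Lib.Helper6.TCP.He
import Cfsg.Agent.Lib.Helper6.TCD.HeT.All

set_option autoImplicit false
set_option maxRecDepth 100000

namespace Cfsg.Agent.Lib.Helper6.TCD.HeT
open Cfsg.Spor Cfsg.Agent.Lib.Helper6.TC Cfsg.Agent.Lib.Helper6.TCP.He

/-- the generators of the subgroup -/
abbrev S : Set (FreeGroup He.Gen) := {He.a, He.c, He.d, He.e, He.f, He.g}

/-- the words of the generators of the subgroup -/
def subw : List (List ℕ) := [[0], [2], [3], [4], [5], [6]]

theorem hsubw : ∀ w ∈ subw, wordElt gc w ∈ Subgroup.closure S := by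
  intro w hw
  simp only [subw, List.mem_cons, List.mem_nil_iff, or_false] at hw
  rcases hw with rfl | rfl | rfl | rfl | rfl | rfl
  · rw [wordElt_cons, wordElt_nil, mul_one]; exact Subgroup.subset_closure (by simp [S, ceOf, gc, gen])
  · rw [wordElt_cons, wordElt_nil, mul_one]; exact Subgroup.subset_closure (by simp [S, ceOf, gc, gen])
  · rw [wordElt_cons, wordElt_nil, mul_one]; exact Subgroup.subset_closure (by simp [S, ceOf, gc, gen])
  · rw [wordElt_cons, wordElt_nil, mul_one]; exact Subgroup.subset_closure (by simp [S, ceOf, gc, gen])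
  · rw [wordElt_cons, wordElt_nil, mul_one]; exact Subgroup.subset_closure (by simp [S, ceOf, gc, gen])
  · rw [wordElt_cons, wordElt_nil, mul_one]; exact Subgroup.subset_closure (by simp [S, ceOf, gc, gen])

theorem chkW : allB (chkWord WD WI base subw Cfsg.Agent.Lib.Helper6.TCD.HeT.INV ncol nrw) nw = true := by
  decide +kernel

theorem hS : ∀ s < n * ncol, chkSlot SH SC NH NC WD n ncol nrw nw tmax Cfsg.Agent.Lib.Helper6.TCD.HeT.INV s = true := by
  intro s hs
  have hs' : s < 353283 := hs
  by_cases h0 : s < 8000
  · exact allR_spec chkS0 s (by omega) (by omega)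
  by_cases h1 : s < 16000
  · exact allR_spec chkS1 s (by omega) (by omega)
  by_cases h2 : s < 24000
  · exact allR_spec chkS2 s (by omega) (by omega)
  by_cases h3 : s < 32000
  · exact allR_spec chkS3 s (by omega) (by omega)
  by_cases h4 : s < 40000
  · exact allR_spec chkS4 s (by omega) (by omega)
  by_cases h5 : s < 48000
  · exact allR_spec chkS5 s (by omega) (by omega)
  by_cases h6 : s < 56000
  · exact allR_spec chkS6 s (by omega) (by omega)
  by_cases h7 : s < 64000
  · exact allR_spec chkS7 s (by omega) (by omega)
  by_cases h8 : s < 72000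
  · exact allR_spec chkS8 s (by omega) (by omega)
  by_cases h9 : s < 80000
  · exact allR_spec chkS9 s (by omega) (by omega)
  by_cases h10 : s < 88000
  · exact allR_spec chkS10 s (by omega) (by omega)
  by_cases h11 : s < 96000
  · exact allR_spec chkS11 s (by omega) (by omega)
  by_cases h12 : s < 104000
  · exact allR_spec chkS12 s (by omega) (by omega)
  by_cases h13 : s < 112000
  · exact allR_spec chkS13 s (by omega) (by omega)
  by_cases h14 : s < 120000
  · exact allR_spec chkS14 s (by omega) (by omega)
  by_cases h15 : s < 128000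
  · exact allR_spec chkS15 s (by omega) (by omega)
  by_cases h16 : s < 136000
  · exact allR_spec chkS16 s (by omega) (by omega)
  by_cases h17 : s < 144000
  · exact allR_spec chkS17 s (by omega) (by omega)
  by_cases h18 : s < 152000
  · exact allR_spec chkS18 s (by omega) (by omega)
  by_cases h19 : s < 160000
  · exact allR_spec chkS19 s (by omega) (by omega)
  by_cases h20 : s < 168000
  · exact allR_spec chkS20 s (by omega) (by omega)
  by_cases h21 : s < 176000
  · exact allR_spec chkS21 s (by omega) (by omega)
  by_cases h22 : s < 184000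
  · exact allR_spec chkS22 s (by omega) (by omega)
  by_cases h23 : s < 192000
  · exact allR_spec chkS23 s (by omega) (by omega)
  by_cases h24 : s < 200000
  · exact allR_spec chkS24 s (by omega) (by omega)
  by_cases h25 : s < 208000
  · exact allR_spec chkS25 s (by omega) (by omega)
  by_cases h26 : s < 216000
  · exact allR_spec chkS26 s (by omega) (by omega)
  by_cases h27 : s < 224000
  · exact allR_spec chkS27 s (by omega) (by omega)
  by_cases h28 : s < 232000
  · exact allR_spec chkS28 s (by omega) (by omega)
  by_cases h29 : s < 240000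
  · exact allR_spec chkS29 s (by omega) (by omega)
  by_cases h30 : s < 248000
  · exact allR_spec chkS30 s (by omega) (by omega)
  by_cases h31 : s < 256000
  · exact allR_spec chkS31 s (by omega) (by omega)
  by_cases h32 : s < 264000
  · exact allR_spec chkS32 s (by omega) (by omega)
  by_cases h33 : s < 272000
  · exact allR_spec chkS33 s (by omega) (by omega)
  by_cases h34 : s < 280000
  · exact allR_spec chkS34 s (by omega) (by omega)
  by_cases h35 : s < 288000
  · exact allR_spec chkS35 s (by omega) (by omega)
  by_cases h36 : s < 296000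
  · exact allR_spec chkS36 s (by omega) (by omega)
  by_cases h37 : s < 304000
  · exact allR_spec chkS37 s (by omega) (by omega)
  by_cases h38 : s < 312000
  · exact allR_spec chkS38 s (by omega) (by omega)
  by_cases h39 : s < 320000
  · exact allR_spec chkS39 s (by omega) (by omega)
  by_cases h40 : s < 328000
  · exact allR_spec chkS40 s (by omega) (by omega)
  by_cases h41 : s < 336000
  · exact allR_spec chkS41 s (by omega) (by omega)
  by_cases h42 : s < 344000
  · exact allR_spec chkS42 s (by omega) (by omega)
  by_cases h43 : s < 352000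
  · exact allR_spec chkS43 s (by omega) (by omega)
  by_cases h44 : s < 353283
  · exact allR_spec chkS44 s (by omega) (by omega)
  omega

theorem hN : ∀ ν < n, chkName SH NH NC WD n ncol nrw nw tmax ν = true := by
  intro ν hν
  have hν' : ν < 50469 := hν
  by_cases h0 : ν < 6000
  · exact allR_spec chkN0 ν (by omega) (by omega)
  by_cases h1 : ν < 12000
  · exact allR_spec chkN1 ν (by omega) (by omega)
  by_cases h2 : ν < 18000
  · exact allR_spec chkN2 ν (by omega) (by omega)
  by_cases h3 : ν < 24000
  · exact allR_spec chkN3 ν (by omega) (by omega)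
  by_cases h4 : ν < 30000
  · exact allR_spec chkN4 ν (by omega) (by omega)
  by_cases h5 : ν < 36000
  · exact allR_spec chkN5 ν (by omega) (by omega)
  by_cases h6 : ν < 42000
  · exact allR_spec chkN6 ν (by omega) (by omega)
  by_cases h7 : ν < 48000
  · exact allR_spec chkN7 ν (by omega) (by omega)
  by_cases h8 : ν < 50469
  · exact allR_spec chkN8 ν (by omega) (by omega)
  omega

theorem hL : ∀ ν < n, chkLive SH NH n ncol tmax ν = true := by
  intro ν hν
  have hν' : ν < 50469 := hν
  by_cases h0 : ν < 6000
  · exact allR_spec chkL0 ν (by omega) (by omega)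
  by_cases h1 : ν < 12000
  · exact allR_spec chkL1 ν (by omega) (by omega)
  by_cases h2 : ν < 18000
  · exact allR_spec chkL2 ν (by omega) (by omega)
  by_cases h3 : ν < 24000
  · exact allR_spec chkL3 ν (by omega) (by omega)
  by_cases h4 : ν < 30000
  · exact allR_spec chkL4 ν (by omega) (by omega)
  by_cases h5 : ν < 36000
  · exact allR_spec chkL5 ν (by omega) (by omega)
  by_cases h6 : ν < 42000
  · exact allR_spec chkL6 ν (by omega) (by omega)
  by_cases h7 : ν < 48000
  · exact allR_spec chkL7 ν (by omega) (by omega)
  by_cases h8 : ν < 50469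
  · exact allR_spec chkL8 ν (by omega) (by omega)
  omega

theorem hwords :
    (∀ j < nrw, j < nw → PresentedGroup.mk Rels (wordElt gc (wordL WD j)) = 1) ∧
    (∀ j, nrw ≤ j → j < nw → wordElt gc (wordL WD j) ∈ Subgroup.closure S) ∧
    (∀ j < nw, ∀ c ∈ wordL WD j, c < ncol) :=
  words_ok (S := S) (nw := nw) hinvG hbl hbase hsubw (fun j hj => allB_spec chkW j hj)

/-- the index of the subgroup is at most `49980` -/
theorem idx : (subH Rels S).index ≤ 49980 ∧ (subH Rels S).index ≠ 0 := by
  have h := index_le (rels := Rels) (S := S) (gc := gc) (n := n) (ncol := ncol) (nrw := nrw) (nw := nw)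
    (tmax := tmax) (INV := Cfsg.Agent.Lib.Helper6.TCD.HeT.INV) (SH := SH) (SC := SC) (NH := NH) (NC := NC) (WD := WD)
    (by decide) hgen hinv1 hinvG (fun j hj => hwords.1 j hj (by unfold nrw nw at *; omega)) hwords.2.1 hwords.2.2 hS hN hL
  have e : cntLive NH n tmax n = 49980 := chkC
  rw [e] at h
  exact h

end Cfsg.Agent.Lib.Helper6.TCD.HeT
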